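import Mathlib
import Groth.Agent.Lib.Helper5.Hyper.Ruled2
import Groth.Agent.Lib.Helper5.DegC.Nef
import Groth.Agent.Lib.Helper5.DegC.RankDeg
import Groth.Agent.Lib.Helper5.Curve6.IdealInv2
import Groth.Agent.Lib.Lead.QC.IdealMul
import Groth.Agent.Lib.Lead.QC.IdealPull
import Groth.Agent.Lib.Lead.QC.TensorPow
import Groth.Agent.Lib.Lead.GS.TensorInv
import Groth.Agent.Lib.Helper1.SmoothDepth

/-!
# Degrees of invertible modules on integral curves of a fibred surface; common parts of nef
pairs (S14314).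
-/

set_option autoImplicit false
universe u
open CategoryTheory CategoryTheory.Limits AlgebraicGeometry TopologicalSpace Opposite

namespace Groth.Agent.H5.NefC

open Groth.Agent.LD Groth.Agent.LD.QC Groth.Agent.H5.Curve2 Groth.Agent.H5.Curve4
  Groth.Agent.H5.Curve6 Groth.Agent.H5.DegC Groth.Agent.H5.Snap Groth.Agent.H5.NegCfg
  Groth.Agent.H5.IntN Groth.Agent.H5.Hyper

section Top

/-- a finite closed subset of a Jacobson space has dimension `≤ 0`. -/
theorem dim_le_zero_of_finite {T : Type*} [TopologicalSpace T] [JacobsonSpace T] [QuasiSober T]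
    (Z : Set T) (hZ : IsClosed Z) (hfin : Z.Finite) : topologicalKrullDim Z ≤ 0 := by
  haveI : QuasiSober Z := hZ.isClosedEmbedding_subtypeVal.quasiSober
  apply dim_le_zero_of_forall_isClosed_singleton
  intro y
  have hW : IsClosed (closure ({y.1} : Set T)) := isClosed_closure
  have hWZ : closure ({y.1} : Set T) ⊆ Z :=
    (hZ.closure_subset_iff).mpr (by simpa using y.2)
  have h1 := closure_inter_closedPoints hW
  have hfin' : (closure ({y.1} : Set T) ∩ closedPoints T).Finite :=
    hfin.subset (Set.inter_subset_left.trans hWZ)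
  have hcl : IsClosed (closure ({y.1} : Set T) ∩ closedPoints T) := by
    have h2 : closure ({y.1} : Set T) ∩ closedPoints T =
        ⋃ x ∈ (closure ({y.1} : Set T) ∩ closedPoints T), {x} := by
      ext z
      simp
    rw [h2]
    exact hfin'.isClosed_biUnion (fun x hx => hx.2)
  rw [hcl.closure_eq] at h1
  have hy : y.1 ∈ closedPoints T := by
    have h3 : y.1 ∈ closure ({y.1} : Set T) := subset_closure rfl
    rw [← h1] at h3
    exact h3.2
  have hy' : IsClosed ({y.1} : Set T) := hy
  have h2 : ({y} : Set Z) = Subtype.val ⁻¹' {y.1} := by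
    ext z
    simp only [Set.mem_singleton_iff, Set.mem_preimage]
    exact Subtype.ext_iff
  rw [h2]
  exact hy'.preimage continuous_subtype_val

end Top

variable (k : Type u) [Field k] {X : Scheme.{u}} [X.Over (Spec (CommRingCat.of k))]
  [IsProper (X ↘ Spec (CommRingCat.of k))]

/-- `(M · Γ) = χ(O_Γ ⊗ M) - χ(O_Γ)`. -/
noncomputable def dG (Γ : X.IdealSheafData) (M : X.Modules) : ℤ :=
  Curv2.euler k X (CohB1.tensorMod (ClSub.quotMod Γ) M) - Curv2.euler k X (ClSub.quotMod Γ)

lemma dG_eq_deg (Γ : X.IdealSheafData) (M : X.Modules) (hM : PicF.IsInvertible M) :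
    dG k Γ M = @Curv2.deg k _ Γ.subscheme (overOf k Γ.subschemeι)
      ((Scheme.Modules.pullback Γ.subschemeι).obj M) 1 := by
  have h := deg_restrict_eq k Γ 1 M (Curve.isFinLocFree_of_rank ((isInvertible_iff M).mp hM))
  rw [h]
  unfold dG
  push_cast
  ring

lemma dG_iso (Γ : X.IdealSheafData) {M M' : X.Modules} (e : M ≅ M') :
    dG k Γ M = dG k Γ M' := by
  have h : Curv2.euler k X (CohB1.tensorMod (ClSub.quotMod Γ) M) =
      Curv2.euler k X (CohB1.tensorMod (ClSub.quotMod Γ) M') :=
    Curve.euler_iso k X ((LT (ClSub.quotMod Γ)).mapIso e)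
  unfold dG
  rw [h]

lemma dG_unit (Γ : X.IdealSheafData) : dG k Γ (unitMod X) = 0 := by
  unfold dG
  rw [Curve.euler_iso k X (SecTwist.unitorR (ClSub.quotMod Γ))]
  ring

theorem dG_tensor (Γ : X.IdealSheafData) (hdim : topologicalKrullDim (Γ.support : Set X) ≤ 1)
    {M N : X.Modules} (hM : PicF.IsInvertible M) (hN : PicF.IsInvertible N) :
    dG k Γ (CohB1.tensorMod M N) = dG k Γ M + dG k Γ N := by
  have hMN : PicF.IsInvertible (CohB1.tensorMod M N) := isInvertible_tensorMod hM hN
  rw [dG_eq_deg k Γ _ hMN, dG_eq_deg k Γ _ hM, dG_eq_deg k Γ _ hN]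
  letI : Γ.subscheme.Over (Spec (CommRingCat.of k)) := overOf k Γ.subschemeι
  haveI : IsProper (Γ.subscheme ↘ Spec (CommRingCat.of k)) := by
    change IsProper (Γ.subschemeι ≫ (X ↘ Spec (CommRingCat.of k)))
    infer_instance
  have hd : topologicalKrullDim Γ.subscheme ≤ 1 := by rw [DegC.dim_subscheme_eq]; exact hdim
  have h := deg_tensorMod k hd 1 1 _ _
    ((isInvertible_iff _).mp (isInvertible_pullback Γ.subschemeι hM))
    ((isInvertible_iff _).mp (isInvertible_pullback Γ.subschemeι hN))
  rw [Curve.deg_iso k Γ.subscheme (pbTensorIso Γ.subschemeι M N hM hN) 1]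
  simp only [mul_one, Nat.cast_one, one_mul] at h
  rw [h]
  ring

theorem dG_idealMod_nonpos [IsAlgClosed k] (Γ : X.IdealSheafData) [IsIntegral Γ.subscheme]
    (hdim : topologicalKrullDim (Γ.support : Set X) ≤ 1)
    (Y : X.IdealSheafData) (hY : BlowUp.IsEffCartierIdeal Y)
    (hnot : ¬ (Γ.support : Set X) ⊆ (Y.support : Set X)) :
    dG k Γ (ClSub.idealMod Y) ≤ 0 := by
  have hYinv : PicF.IsInvertible (ClSub.idealMod Y) := (isInvertible_idealMod_iff Y).mpr hY
  rw [dG_eq_deg k Γ _ hYinv]
  letI : Γ.subscheme.Over (Spec (CommRingCat.of k)) := overOf k Γ.subschemeι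
  haveI : IsProper (Γ.subscheme ↘ Spec (CommRingCat.of k)) := by
    change IsProper (Γ.subschemeι ≫ (X ↘ Spec (CommRingCat.of k)))
    infer_instance
  have hd : topologicalKrullDim Γ.subscheme ≤ 1 := by rw [DegC.dim_subscheme_eq]; exact hdim
  have hgen : Γ.subschemeι (genericPoint Γ.subscheme) ∉ Y.support := by
    intro h
    apply hnot
    intro z hz
    rw [← Scheme.IdealSheafData.range_subschemeι] at hz
    obtain ⟨g, rfl⟩ := hz
    have hs : Γ.subschemeι (genericPoint Γ.subscheme) ⤳ Γ.subschemeι g :=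
      (genericPoint_specializes g).map Γ.subschemeι.continuous
    exact hs.mem_closed Y.support.isClosed h
  have hJ := isEffCartierIdeal_comap_of_generic Γ.subschemeι Y hY hgen
  obtain ⟨e⟩ := nonempty_pullback_idealMod_iso Γ.subschemeι Y hY hJ
  rw [Curve.deg_iso k Γ.subscheme e 1,
    deg_idealMod_of_isEffCartierIdeal k Γ.subscheme hd _ hJ]
  simp

set_option maxHeartbeats 800000 in
theorem dG_fibre_nonpos [IsAlgClosed k] [IsIntegral X]
    (C : Scheme.{u}) [C.Over (Spec (CommRingCat.of k))] [IsProper (C ↘ Spec (CommRingCat.of k))]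
    [IsIntegral C]
    (hdimC : topologicalKrullDim C = 1) (hregC : ∀ x : C, IsRegularLocalRing (C.presheaf.stalk x))
    (f : X ⟶ C) (hsurj : Function.Surjective f) (p : C) (hp : IsClosed ({p} : Set C))
    (Γ : X.IdealSheafData) [IsIntegral Γ.subscheme]
    (hdim : topologicalKrullDim (Γ.support : Set X) ≤ 1) :
    BlowUp.IsEffCartierIdeal ((Scheme.IdealSheafData.vanishingIdeal ⟨{p}, hp⟩).comap f) ∧
    dG k Γ (ClSub.idealMod ((Scheme.IdealSheafData.vanishingIdeal ⟨{p}, hp⟩).comap f)) ≤ 0 := by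
  haveI := Curve.isLocallyNoetherian k X
  haveI := Curve.isLocallyNoetherian k C
  haveI := nontrivial_of_dim_one hdimC
  obtain ⟨Iy, hIy⟩ : ∃ I, I = Scheme.IdealSheafData.vanishingIdeal (⟨{p}, hp⟩ : Closeds C) :=
    ⟨_, rfl⟩
  rw [← hIy]
  have hD : BlowUp.IsEffCartierIdeal Iy := by
    rw [hIy]
    exact isEffCartierIdeal_of_isRegularLocalRing hdimC.le p hp
      (ne_genericPoint_of_isClosed_of_dim_one hdimC p hp) (hregC p)
  have hIinv : PicF.IsInvertible (ClSub.idealMod Iy) := (isInvertible_idealMod_iff _).mpr hD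
  have hgen : f (genericPoint X) ∉ Iy.support := by
    intro h
    have h1 : f (genericPoint X) ∈ (Iy.support : Set C) := h
    rw [hIy, Scheme.IdealSheafData.coe_support_vanishingIdeal] at h1
    have h2 : f (genericPoint X) = p := h1
    have hall : ∀ x : X, f x = p := by
      intro x
      have hcl : IsClosed (f ⁻¹' ({p} : Set C)) := hp.preimage f.continuous
      exact (genericPoint_specializes x).mem_closed hcl h2
    obtain ⟨z, hz⟩ := exists_ne p
    obtain ⟨x, rfl⟩ := hsurj z
    exact hz (hall x)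
  have hJ : BlowUp.IsEffCartierIdeal (Iy.comap f) :=
    isEffCartierIdeal_comap_of_generic f Iy hD hgen
  refine ⟨hJ, ?_⟩
  by_cases hsub : (Γ.support : Set X) ⊆ ((Iy.comap f).support : Set X)
  · obtain ⟨e₂⟩ := nonempty_pullback_idealMod_iso f Iy hD hJ
    have hsupp : ((Iy.comap f).support : Set X) = f ⁻¹' {p} := by
      rw [Scheme.IdealSheafData.support_comap]
      change f ⁻¹' (Iy.support : Set C) = _
      rw [hIy, Scheme.IdealSheafData.coe_support_vanishingIdeal]
      rfl
    have hJinv : PicF.IsInvertible (ClSub.idealMod (Iy.comap f)) :=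
      (isInvertible_idealMod_iff _).mpr hJ
    rw [dG_eq_deg k Γ _ hJinv]
    letI : Γ.subscheme.Over (Spec (CommRingCat.of k)) := overOf k Γ.subschemeι
    haveI : IsProper (Γ.subscheme ↘ Spec (CommRingCat.of k)) := by
      change IsProper (Γ.subschemeι ≫ (X ↘ Spec (CommRingCat.of k)))
      infer_instance
    have hrange : Set.range (Γ.subschemeι ≫ f) ⊆ {p} := by
      rintro _ ⟨z, rfl⟩
      have hz : Γ.subschemeι z ∈ (Γ.support : Set X) := by
        rw [← Scheme.IdealSheafData.range_subschemeι]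
        exact ⟨z, rfl⟩
      have h3 := hsub hz
      rw [hsupp] at h3
      exact h3
    obtain ⟨t⟩ := nonempty_pullback_iso_unit_of_range_subset (Γ.subschemeι ≫ f)
      (ClSub.idealMod Iy) hIinv p hrange
    have e5 : (Scheme.Modules.pullback Γ.subschemeι).obj (ClSub.idealMod (Iy.comap f)) ≅
        unitMod Γ.subscheme :=
      (Scheme.Modules.pullback Γ.subschemeι).mapIso e₂.symm ≪≫
        (Groth.Agent.H5.Lim.pullbackCompIso Γ.subschemeι f _ rfl).app _ ≪≫ t
    rw [Curve.deg_iso k Γ.subscheme e5 1]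
    unfold Curv2.deg
    change Curv2.euler k Γ.subscheme (Coh.structureModule Γ.subscheme) - _ ≤ _
    push_cast
    linarith
  · exact dG_idealMod_nonpos k Γ hdim _ hJ hsub

include k in
theorem not_both_subset (Γ Y₁ Y₂ : X.IdealSheafData)
    (hdim : topologicalKrullDim (Γ.support : Set X) = 1)
    (hY : ((Y₁ ⊔ Y₂).support : Set X).Finite)
    (h₁ : (Γ.support : Set X) ⊆ (Y₁.support : Set X))
    (h₂ : (Γ.support : Set X) ⊆ (Y₂.support : Set X)) : False := by
  haveI : JacobsonSpace X := LocallyOfFiniteType.jacobsonSpace (X ↘ Spec (CommRingCat.of k))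
  have hsub : (Γ.support : Set X) ⊆ ((Y₁ ⊔ Y₂).support : Set X) := by
    rw [Scheme.IdealSheafData.support_sup, TopologicalSpace.Closeds.coe_inf]
    exact Set.subset_inter h₁ h₂
  have h := dim_le_zero_of_finite (Γ.support : Set X) Γ.support.isClosed (hY.subset hsub)
  rw [hdim] at h
  exact absurd h (by decide)

end Groth.Agent.H5.NefC
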