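import Mathlib
import Groth.Agent.Lib.Helper5.NefC.Main
import Groth.Agent.Lib.Helper5.Surf.NefOrthB
import Groth.Agent.Lib.Helper5.IntN.SecNef
import Groth.Agent.Lib.Helper5.Hyper.KleimanProper
import Groth.Agent.Lib.Helper7.UTCon2
import Groth.Agent.Lib.Lead.RR.SurfKit
import Groth.Agent.Lib.Helper5.Curve6.Ext2
import Groth.Agent.Lib.Helper5.Curve6.Ext3
import Groth.Agent.Lib.Lead.QC.TensorExact

/-!
# Nef sequences on a fibred surface (towards S14313): tools.
-/

set_option autoImplicit false
universe u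
open CategoryTheory CategoryTheory.Limits AlgebraicGeometry TopologicalSpace Opposite

namespace Groth.Agent.H5.NefC

open Groth.Agent.LD Groth.Agent.LD.QC Groth.Agent.H5.Curve2 Groth.Agent.H5.Curve4
  Groth.Agent.H5.Curve6 Groth.Agent.H5.DegC Groth.Agent.H5.Snap Groth.Agent.H5.NegCfg
  Groth.Agent.H5.IntN Groth.Agent.H5.Hyper Groth.Agent.LD.RRS.Kit

section Ideal

variable {X : Scheme.{u}}

/-- the inclusion of ideal modules induced by an inclusion of ideal sheaves. -/
noncomputable def idealModLE {I J : X.IdealSheafData} (h : I ≤ J) :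
    ClSub.idealMod I ⟶ ClSub.idealMod J :=
  kernel.lift (ClSub.toSubscheme J) (ClSub.idealModι I) (by
    apply hom_ext_affine
    intro U z
    change (ClSub.toSubscheme J).app U.1 ((ClSub.idealModι I).app U.1 z) = 0
    have hz : (show Γ(X, U.1) from (ClSub.idealModι I).app U.1 z) ∈ I.ideal U :=
      (exists_idealModι_app_eq_iff I U _).mp ⟨z, rfl⟩
    have hz' : (show Γ(X, U.1) from (ClSub.idealModι I).app U.1 z) ∈ J.ideal U := h U hz
    rw [← J.ker_subschemeι_app U] at hz'
    exact hz')

lemma idealModLE_ι {I J : X.IdealSheafData} (h : I ≤ J) :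
    idealModLE h ≫ ClSub.idealModι J = ClSub.idealModι I :=
  kernel.lift_ι _ _ _

instance mono_idealModLE {I J : X.IdealSheafData} (h : I ≤ J) : Mono (idealModLE h) := by
  haveI : Mono (ClSub.idealModι I) := (shortExact_idealMod I).mono_f
  haveI : Mono (idealModLE h ≫ ClSub.idealModι J) := by rw [idealModLE_ι]; infer_instance
  exact mono_of_mono (idealModLE h) (ClSub.idealModι J)

/-- `O(Z_I - Z_J)` has a nonzero section when `I ≤ J`. -/
theorem nontrivial_H0_diff [IsIntegral X] {I J : X.IdealSheafData} (h : I ≤ J)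
    (hI : PicF.IsInvertible (ClSub.idealMod I)) (Iinv : X.Modules)
    (hIinv : PicF.IsInvertible Iinv)
    (e : CohB1.tensorMod (ClSub.idealMod I) Iinv ≅ unitMod X) :
    Nontrivial (Coh.HH X (CohB1.tensorMod (ClSub.idealMod J) Iinv) 0) := by
  haveI : Mono (KoszTw.tensorMap (idealModLE h) (𝟙 Iinv)) :=
    mono_tensorMap_of_isInvertible _ _ hIinv
  apply nontrivial_H0_of_section_ne_zero _ (e.inv ≫ KoszTw.tensorMap (idealModLE h) (𝟙 Iinv))
  intro h0
  have h1 : e.inv = 0 := by
    rw [← cancel_mono (KoszTw.tensorMap (idealModLE h) (𝟙 Iinv)), h0, zero_comp]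
  have h2 : IsZero (unitMod X) := by
    rw [IsZero.iff_id_eq_zero, ← e.inv_hom_id, h1, zero_comp]
  exact Curve6.not_isZero_of_isInvertible (isInvertible_unit X) h2

end Ideal

variable (k : Type u) [Field k] {X : Scheme.{u}} [X.Over (Spec (CommRingCat.of k))]
  [IsProper (X ↘ Spec (CommRingCat.of k))]

/-- `dG` of a tensor power. -/
theorem dG_tensorPow (Γ : X.IdealSheafData) (hdim : topologicalKrullDim (Γ.support : Set X) ≤ 1)
    {M : X.Modules} (hM : PicF.IsInvertible M) (n : ℕ) :
    dG k Γ (CohB1.tensorPow M n) = n * dG k Γ M := by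
  induction n with
  | zero =>
    change dG k Γ (unitMod X) = _
    rw [dG_unit]
    simp
  | succ n ih =>
    change dG k Γ (CohB1.tensorMod (CohB1.tensorPow M n) M) = _
    rw [dG_tensor k Γ hdim (isInvertible_tensorPow hM n) hM, ih]
    push_cast
    ring

/-- the honest module `P^b ⊗ Q^b ⊗ R^a`. -/
noncomputable def triple (P Q R : X.Modules) (b a : ℕ) : X.Modules :=
  CohB1.tensorMod (CohB1.tensorMod (CohB1.tensorPow P b) (CohB1.tensorPow Q b))
    (CohB1.tensorPow R a)

omit [X.Over (Spec (CommRingCat.of k))] [IsProper (X ↘ Spec (CommRingCat.of k))] in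
theorem isInvertible_triple {P Q R : X.Modules} (hP : PicF.IsInvertible P)
    (hQ : PicF.IsInvertible Q) (hR : PicF.IsInvertible R) (b a : ℕ) :
    PicF.IsInvertible (triple P Q R b a) :=
  isInvertible_tensorMod (isInvertible_tensorMod (isInvertible_tensorPow hP b)
    (isInvertible_tensorPow hQ b)) (isInvertible_tensorPow hR a)

theorem dG_triple (Γ : X.IdealSheafData) (hdim : topologicalKrullDim (Γ.support : Set X) ≤ 1)
    {P Q R : X.Modules} (hP : PicF.IsInvertible P)
    (hQ : PicF.IsInvertible Q) (hR : PicF.IsInvertible R) (b a : ℕ) :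
    dG k Γ (triple P Q R b a) = b * dG k Γ P + b * dG k Γ Q + a * dG k Γ R := by
  unfold triple
  rw [dG_tensor k Γ hdim (isInvertible_tensorMod (isInvertible_tensorPow hP b)
    (isInvertible_tensorPow hQ b)) (isInvertible_tensorPow hR a),
    dG_tensor k Γ hdim (isInvertible_tensorPow hP b) (isInvertible_tensorPow hQ b),
    dG_tensorPow k Γ hdim hP, dG_tensorPow k Γ hdim hQ, dG_tensorPow k Γ hdim hR]

/-- bilinearity against a triple. -/
theorem intNum_triple (hd : topologicalKrullDim X ≤ ((2 : ℕ) : WithBot ℕ∞))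
    {A P Q R : X.Modules} (hA : PicF.IsInvertible A) (hP : PicF.IsInvertible P)
    (hQ : PicF.IsInvertible Q) (hR : PicF.IsInvertible R) (b a : ℕ) :
    FGA.intNum k X 2 ![A, triple P Q R b a] (Coh.structureModule X) =
      b * FGA.intNum k X 2 ![A, P] (Coh.structureModule X) +
      b * FGA.intNum k X 2 ![A, Q] (Coh.structureModule X) +
      a * FGA.intNum k X 2 ![A, R] (Coh.structureModule X) := by
  have hPb := isInvertible_tensorPow hP b
  have hQb := isInvertible_tensorPow hQ b
  have hRa := isInvertible_tensorPow hR a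
  rw [intNum_comm k A _ hA (isInvertible_triple hP hQ hR b a)]
  unfold triple
  rw [intNum_tensor_left k hd _ _ A (isInvertible_tensorMod hPb hQb) hRa hA,
    intNum_tensor_left k hd _ _ A hPb hQb hA,
    intNum_pow_left k hd P A hP hA, intNum_pow_left k hd Q A hQ hA,
    intNum_pow_left k hd R A hR hA,
    intNum_comm k P A hP hA, intNum_comm k Q A hQ hA, intNum_comm k R A hR hA]

end Groth.Agent.H5.NefC
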