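import Mathlib
import Groth.Agent.Lib.Helper5.NefC.Seq1

/-!
# Nef sequences on a fibred surface (towards S14313): Kleiman on a proper surface and the honest
multiples of the nef `ℚ`-divisors.
-/

set_option autoImplicit false
universe u
open CategoryTheory CategoryTheory.Limits AlgebraicGeometry TopologicalSpace Opposite

namespace Groth.Agent.H5.NefC

open Groth.Agent.LD Groth.Agent.LD.QC Groth.Agent.H5.Curve2 Groth.Agent.H5.Curve4
  Groth.Agent.H5.Curve6 Groth.Agent.H5.DegC Groth.Agent.H5.Snap Groth.Agent.H5.NegCfg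
  Groth.Agent.H5.IntN Groth.Agent.H5.Hyper Groth.Agent.LD.RRS.Kit

variable (k : Type u) [Field k] {X : Scheme.{u}} [X.Over (Spec (CommRingCat.of k))]
  [IsProper (X ↘ Spec (CommRingCat.of k))]

/-- **Kleiman on an integral proper surface**: a nef invertible module has nonnegative square. -/
theorem sq_nonneg_of_nef_surface [IsAlgClosed k] [IsIntegral X] (hdim : topologicalKrullDim X = 2)
    (M : X.Modules) (hM : PicF.IsInvertible M)
    (hnef : ∀ C : X.IdealSheafData, IsIntegral C.subscheme →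
      topologicalKrullDim (C.support : Set X) = 1 →
        0 ≤ (Curv2.euler k X (CohB1.tensorMod (ClSub.quotMod C) M) -
          Curv2.euler k X (ClSub.quotMod C))) :
    0 ≤ FGA.intNum k X 2 ![M, M] (Coh.structureModule X) := by
  classical
  haveI : IsNoetherian X := Curve2.isNoetherian_of_proper k X
  have hd : topologicalKrullDim X ≤ ((2 : ℕ) : WithBot ℕ∞) := le_of_eq hdim
  have hv : vI (genericPoint X) = ⊥ := by
    have h1 : (⟨closure ({genericPoint X} : Set X), isClosed_closure⟩ : Closeds X) = ⊤ := by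
      apply Closeds.ext
      exact (genericPoint_spec X)
    change Scheme.IdealSheafData.vanishingIdeal _ = ⊥
    rw [h1, Scheme.IdealSheafData.vanishingIdeal_top, Scheme.nilradical_eq_bot]
  haveI := isIntegral_vI (genericPoint X)
  have hZdim : topologicalKrullDim ((vI (genericPoint X)).support : Set X) = ((2 : ℕ) : WithBot ℕ∞) := by
    rw [coe_support_vI, (genericPoint_spec X).def]
    have h2 : topologicalKrullDim ↥(Set.univ : Set X) = topologicalKrullDim X :=
      IsHomeomorph.topologicalKrullDim_eq _ (Homeomorph.Set.univ X).isHomeomorph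
    rw [h2, hdim]
    rfl
  have hQ : Coh.IsCoh (ClSub.quotMod (vI (genericPoint X))) := isCoh_quotMod _
  have hsupp : topologicalKrullDim (CohB1.support (ClSub.quotMod (vI (genericPoint X)))) ≤
      ((2 : ℕ) : WithBot ℕ∞) := by
    rw [support_quotMod, hZdim]
  obtain ⟨P, -, hP⟩ := snapper k (ClSub.quotMod (vI (genericPoint X))) hQ 2 hsupp 2
    (fun _ => M) (fun _ => hM)
  have hcoef := coeff_nonneg_of_nef k M hM hnef (vI (genericPoint X)) 2 hZdim P hP
  have hdeg := support_deg_le k _ hQ 2 hsupp 2 (fun _ => M) (fun _ => hM) P hP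
  rw [← mixDiffL_eval 2 P hdeg] at hcoef
  -- identify with the intersection number
  haveI : IsIso (ClSub.toSubscheme (vI (genericPoint X))) := by
    rw [hv]
    exact (shortExact_idealMod (⊥ : X.IdealSheafData)).isIso_g_iff.mpr
      (Groth.Agent.H7.UTCon.isZero_idealMod_bot X)
  have eQ : unitMod X ≅ ClSub.quotMod (vI (genericPoint X)) :=
    asIso (ClSub.toSubscheme (vI (genericPoint X)))
  have hfam : (![M, M] : Fin 2 → X.Modules) = fun _ => M := by
    funext i
    fin_cases i <;> rfl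
  have h1 := intNum_eq_mixDiff k 2 hd 2 ![M, M]
    (fun i => by rw [hfam]; exact hM) (unitMod X) (Groth.Agent.LD.PF.isCoh_unitMod X)
  have hchi : chiFn k X 2 ![M, M] (unitMod X) =
      fun n : Fin 2 → ℕ => MvPolynomial.eval (fun i => (n i : ℚ)) P := by
    rw [hfam, chiFn_iso k 2 (fun _ => M) eQ]
    funext n
    unfold chiFn
    rw [tpFun_obj]
    exact hP n
  rw [hchi] at h1
  have h2 : (0 : ℚ) ≤ (FGA.intNum k X 2 ![M, M] (Coh.structureModule X) : ℚ) := by
    change (0 : ℚ) ≤ (FGA.intNum k X 2 ![M, M] (unitMod X) : ℚ)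
    rw [h1]
    simpa using hcoef
  exact_mod_cast h2

/-- the honest multiple of the `ℚ`-divisor `L + I - μ LF`. -/
theorem exists_honest [IsAlgClosed k] [IsIntegral X] (hdim : topologicalKrullDim X = 2)
    (L I IF LF : X.Modules) (hL : PicF.IsInvertible L) (hI : PicF.IsInvertible I)
    (hIF : PicF.IsInvertible IF) (hLF : PicF.IsInvertible LF)
    (eLF : CohB1.tensorMod LF IF ≅ Coh.structureModule X) (μ : ℚ) (hμ : 0 ≤ μ)
    (hnef : ∀ Γ : X.IdealSheafData, IsIntegral Γ.subscheme →
      topologicalKrullDim (Γ.support : Set X) = 1 →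
      (0 : ℚ) ≤ (dG k Γ L : ℚ) + (dG k Γ I : ℚ) - μ * (dG k Γ LF : ℚ)) :
    ∃ (b : ℕ) (M : X.Modules), 0 < b ∧ PicF.IsInvertible M ∧ NefMod k X M ∧
      0 ≤ FGA.intNum k X 2 ![M, M] (Coh.structureModule X) ∧
      ∀ A : X.Modules, PicF.IsInvertible A →
        (FGA.intNum k X 2 ![A, M] (Coh.structureModule X) : ℚ) =
          b * ((FGA.intNum k X 2 ![A, L] (Coh.structureModule X) : ℚ) +
            (FGA.intNum k X 2 ![A, I] (Coh.structureModule X) : ℚ) -
            μ * (FGA.intNum k X 2 ![A, LF] (Coh.structureModule X) : ℚ)) := by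
  have hd : topologicalKrullDim X ≤ ((2 : ℕ) : WithBot ℕ∞) := le_of_eq hdim
  obtain ⟨b, hbdef⟩ : ∃ b : ℕ, b = μ.den := ⟨_, rfl⟩
  obtain ⟨a, hadef⟩ : ∃ a : ℕ, a = μ.num.toNat := ⟨_, rfl⟩
  have hb : 0 < b := by rw [hbdef]; exact μ.den_pos
  have hab : (a : ℚ) = μ * b := by
    have h1 : ((a : ℤ) : ℚ) = (μ.num : ℚ) := by
      rw [hadef, Int.toNat_of_nonneg (Rat.num_nonneg.mpr hμ)]
    have h2 : μ * (μ.den : ℚ) = (μ.num : ℚ) := Rat.mul_den_eq_num μ
    rw [hbdef, h2, ← h1]
    push_cast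
    rfl
  have hMinv : PicF.IsInvertible (triple L I IF b a) := isInvertible_triple hL hI hIF b a
  have hcurve : ∀ Γ : X.IdealSheafData, IsIntegral Γ.subscheme →
      topologicalKrullDim (Γ.support : Set X) = 1 →
        0 ≤ (Curv2.euler k X (CohB1.tensorMod (ClSub.quotMod Γ) (triple L I IF b a)) -
          Curv2.euler k X (ClSub.quotMod Γ)) := by
    intro Γ hΓ hΓd
    have hdimΓ : topologicalKrullDim (Γ.support : Set X) ≤ 1 := le_of_eq hΓd
    change 0 ≤ dG k Γ (triple L I IF b a)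
    rw [dG_triple k Γ hdimΓ hL hI hIF]
    have h0 : dG k Γ LF + dG k Γ IF = 0 := by
      rw [← dG_tensor k Γ hdimΓ hLF hIF, dG_iso k Γ eLF]
      exact dG_unit k Γ
    have h1 := hnef Γ hΓ hΓd
    have h2 : ((b * dG k Γ L + b * dG k Γ I + a * dG k Γ IF : ℤ) : ℚ) =
        b * ((dG k Γ L : ℚ) + (dG k Γ I : ℚ) - μ * (dG k Γ LF : ℚ)) := by
      have h3 : (dG k Γ IF : ℚ) = - (dG k Γ LF : ℚ) := by
        have : ((dG k Γ LF + dG k Γ IF : ℤ) : ℚ) = 0 := by rw [h0]; simp
        push_cast at this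
        linarith
      push_cast
      rw [h3, hab]
      ring
    have h4 : (0 : ℚ) ≤ ((b * dG k Γ L + b * dG k Γ I + a * dG k Γ IF : ℤ) : ℚ) := by
      rw [h2]
      exact mul_nonneg (by positivity) h1
    exact_mod_cast h4
  refine ⟨b, triple L I IF b a, hb, hMinv, Groth.Agent.H5.NefOrth.nefMod_of_forall_curve k _ hMinv hcurve,
    sq_nonneg_of_nef_surface k hdim _ hMinv hcurve, ?_⟩
  intro A hA
  rw [intNum_triple k hd hA hL hI hIF]
  have h5 : FGA.intNum k X 2 ![A, IF] (Coh.structureModule X) =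
      - FGA.intNum k X 2 ![A, LF] (Coh.structureModule X) := by
    rw [intNum_comm k A IF hA hIF, intNum_comm k A LF hA hLF]
    exact intNum_inv_left k hd LF IF A hLF hA eLF
  rw [h5]
  push_cast
  rw [hab]
  ring

end Groth.Agent.H5.NefC
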