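import Mathlib
import Groth.Agent.Lib.Helper5.NefC.Seq2
import Groth.Agent.Lib.Helper5.ArS.ChiGeo
import Groth.Agent.Lib.Helper5.Surf.GrowC

/-!
# Nef sequences on a fibred surface (S14313): the numerical core and the assembly.
-/

set_option autoImplicit false
universe u
open CategoryTheory CategoryTheory.Limits AlgebraicGeometry TopologicalSpace Opposite

namespace Groth.Agent.H5.NefC

open Groth.Agent.LD Groth.Agent.LD.QC Groth.Agent.H5.Curve2 Groth.Agent.H5.Curve4
  Groth.Agent.H5.Curve6 Groth.Agent.H5.DegC Groth.Agent.H5.Snap Groth.Agent.H5.NegCfg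
  Groth.Agent.H5.IntN Groth.Agent.H5.Hyper Groth.Agent.LD.RRS.Kit

section Num

/-- telescoping over `Fin`. -/
theorem fin_telescope : ∀ (n : ℕ) (q : Fin (n + 1) → ℚ),
    (Finset.univ.sum fun i : Fin n => q i.succ - q i.castSucc) = q (Fin.last n) - q 0
  | 0, q => by simp
  | n + 1, q => by
    rw [Fin.sum_univ_castSucc]
    have ih := fin_telescope n (fun j => q j.castSucc)
    simp only [Fin.succ_castSucc] at ih ⊢
    rw [ih]
    simp only [Fin.succ_last, Fin.castSucc_zero]
    ring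

/-- the numerical core of Xiao's inequality. -/
theorem numeric_core (n : ℕ) (μ : Fin (n + 1) → ℚ) (a c h : ℚ) (β γ : Fin (n + 1) → ℚ)
    (ε : Fin (n + 1) → Fin (n + 1) → ℚ) (hε : ∀ i j, ε i j = ε j i)
    (hβl : β (Fin.last n) = 0) (hγl : γ (Fin.last n) = 0) (hεl : ε (Fin.last n) (Fin.last n) = 0)
    (hμl : μ (Fin.last n) = 0)
    (hK : 0 ≤ a + 2 * β 0 + ε 0 0 - 2 * μ 0 * (c + γ 0) + μ 0 ^ 2 * h)
    (hW1 : ∀ i : Fin n, 0 ≤ (β i.succ - β i.castSucc) + (ε i.succ i.castSucc - ε i.castSucc i.castSucc)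
      - μ i.castSucc * (γ i.succ - γ i.castSucc))
    (hW2 : ∀ i : Fin n, 0 ≤ (β i.succ - β i.castSucc) + (ε i.succ i.succ - ε i.castSucc i.succ)
      - μ i.succ * (γ i.succ - γ i.castSucc)) :
    (Finset.univ.sum fun i : Fin n =>
      ((c + γ i.castSucc - μ i.castSucc * h) + (c + γ i.succ - μ i.succ * h)) *
        (μ i.castSucc - μ i.succ)) ≤ a := by
  obtain ⟨q, hq⟩ : ∃ q : Fin (n + 1) → ℚ, q = fun j =>
      a + 2 * β j + ε j j - 2 * μ j * (c + γ j) + μ j ^ 2 * h := ⟨_, rfl⟩
  have hterm : ∀ i : Fin n,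
      ((c + γ i.castSucc - μ i.castSucc * h) + (c + γ i.succ - μ i.succ * h)) *
        (μ i.castSucc - μ i.succ) ≤ q i.succ - q i.castSucc := by
    intro i
    have h1 := hW1 i
    have h2 := hW2 i
    have h3 := hε i.succ i.castSucc
    rw [hq]
    simp only
    nlinarith [h1, h2, h3]
  calc (Finset.univ.sum fun i : Fin n =>
      ((c + γ i.castSucc - μ i.castSucc * h) + (c + γ i.succ - μ i.succ * h)) *
        (μ i.castSucc - μ i.succ))
      ≤ Finset.univ.sum fun i : Fin n => q i.succ - q i.castSucc :=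
        Finset.sum_le_sum (fun i _ => hterm i)
    _ = q (Fin.last n) - q 0 := fin_telescope n q
    _ ≤ a := by
        rw [hq]
        simp only
        rw [hβl, hγl, hεl, hμl]
        linarith

end Num

end Groth.Agent.H5.NefC
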