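import Mathlib
import Groth.Agent.Lib.Helper5.NefC.Seq3

/-!
# Nef sequences on a fibred surface (S14313): the assembly.
-/

set_option autoImplicit false
universe u
open CategoryTheory CategoryTheory.Limits AlgebraicGeometry TopologicalSpace Opposite

namespace Groth.Agent.H5.NefC

open Groth.Agent.LD Groth.Agent.LD.QC Groth.Agent.H5.Curve2 Groth.Agent.H5.Curve4
  Groth.Agent.H5.Curve6 Groth.Agent.H5.DegC Groth.Agent.H5.Snap Groth.Agent.H5.NegCfg
  Groth.Agent.H5.IntN Groth.Agent.H5.Hyper Groth.Agent.LD.RRS.Kit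

variable (k : Type u) [Field k] {X : Scheme.{u}} [X.Over (Spec (CommRingCat.of k))]
  [IsProper (X ↘ Spec (CommRingCat.of k))]

/-- pairing with the unit ideal vanishes. -/
theorem intNum_idealMod_top (hd : topologicalKrullDim X ≤ ((2 : ℕ) : WithBot ℕ∞))
    (A : X.Modules) (hA : PicF.IsInvertible A)
    (hT : PicF.IsInvertible (ClSub.idealMod (⊤ : X.IdealSheafData))) :
    FGA.intNum k X 2 ![A, ClSub.idealMod (⊤ : X.IdealSheafData)] (Coh.structureModule X) = 0 := by
  haveI : IsIso (ClSub.idealModι (⊤ : X.IdealSheafData)) :=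
    (shortExact_idealMod (⊤ : X.IdealSheafData)).isIso_f_iff.mpr
      (Groth.Agent.H5.ArS.isZero_quotMod_top X)
  have eT : ClSub.idealMod (⊤ : X.IdealSheafData) ≅ unitMod X :=
    asIso (ClSub.idealModι (⊤ : X.IdealSheafData))
  rw [Groth.Agent.H5.SurfGrowth.intNum_two_unit k hd A _ hA hT]
  have h1 : Curv2.euler k X (CohB1.tensorMod A (ClSub.idealMod (⊤ : X.IdealSheafData))) =
      Curv2.euler k X A :=
    Curve.euler_iso k X ((LT A).mapIso eT ≪≫ SecTwist.unitorR A)
  rw [h1, Curve.euler_iso k X eT]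
  ring

set_option maxHeartbeats 1600000 in
/-- **Xiao's inequality for a nef sequence** (abstract form). -/
theorem xiao [IsAlgClosed k] [IsIntegral X] (hdim : topologicalKrullDim X = 2)
    (LF IFm : X.Modules) (hLFinv : PicF.IsInvertible LF) (hIFinv : PicF.IsInvertible IFm)
    (eLF : CohB1.tensorMod LF IFm ≅ Coh.structureModule X)
    (L : X.Modules) (hL : PicF.IsInvertible L)
    (n : ℕ) (Z : Fin (n + 1) → X.IdealSheafData) (hZ : ∀ i, BlowUp.IsEffCartierIdeal (Z i))
    (hZmono : Monotone Z) (hZlast : Z (Fin.last n) = ⊤)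
    (μ : Fin (n + 1) → ℚ) (hμ : StrictAnti μ) (hμlast : μ (Fin.last n) = 0)
    (hnef : ∀ (i : Fin (n + 1)) (Γ : X.IdealSheafData), IsIntegral Γ.subscheme →
      topologicalKrullDim (Γ.support : Set X) = 1 →
      (0 : ℚ) ≤ (dG k Γ L : ℚ) + (dG k Γ (ClSub.idealMod (Z i)) : ℚ) - μ i * (dG k Γ LF : ℚ)) :
    (Finset.univ.sum fun i : Fin n =>
        (((FGA.intNum k X 2 ![L, LF] (Coh.structureModule X) : ℚ) + (FGA.intNum k X 2 ![ClSub.idealMod (Z i.castSucc), LF] (Coh.structureModule X) : ℚ) - μ i.castSucc * (FGA.intNum k X 2 ![LF, LF] (Coh.structureModule X) : ℚ))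
          + ((FGA.intNum k X 2 ![L, LF] (Coh.structureModule X) : ℚ) + (FGA.intNum k X 2 ![ClSub.idealMod (Z i.succ), LF] (Coh.structureModule X) : ℚ) - μ i.succ * (FGA.intNum k X 2 ![LF, LF] (Coh.structureModule X) : ℚ)))
        * (μ i.castSucc - μ i.succ)) ≤ (FGA.intNum k X 2 ![L, L] (Coh.structureModule X) : ℚ) := by
  classical
  have hd : topologicalKrullDim X ≤ ((2 : ℕ) : WithBot ℕ∞) := le_of_eq hdim
  have hIinv : ∀ j, PicF.IsInvertible (ClSub.idealMod (Z j)) :=
    fun j => (isInvertible_idealMod_iff _).mpr (hZ j)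
  have hμ0 : ∀ j, 0 ≤ μ j := fun j => by
    rw [← hμlast]
    exact hμ.antitone (Fin.le_last j)
  have H := fun j => exists_honest k hdim L (ClSub.idealMod (Z j)) IFm LF hL (hIinv j) hIFinv
    hLFinv eLF (μ j) (hμ0 j) (hnef j)
  choose b M hb hMinv hMnef hMsq hMform using H
  have Hinv := fun j => Groth.Agent.H5.Glue.exists_inverse (ClSub.idealMod (Z j)) (hIinv j)
  choose Iinv hIinv' eIinv using Hinv
  obtain ⟨B, hB⟩ : ∃ B : X.Modules → X.Modules → ℚ, B = fun A A' =>
      ((FGA.intNum k X 2 ![A, A'] (Coh.structureModule X) : ℤ) : ℚ) := ⟨_, rfl⟩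
  have Bcomm : ∀ A A', PicF.IsInvertible A → PicF.IsInvertible A' → B A A' = B A' A := by
    intro A A' hA hA'
    rw [hB]
    simp only
    rw [intNum_comm k A A' hA hA']
  have hform : ∀ j A, PicF.IsInvertible A →
      B A (M j) = b j * (B A L + B A (ClSub.idealMod (Z j)) - μ j * B A LF) := by
    intro j A hA
    rw [hB]
    exact hMform j A hA
  have htop : ∀ A, PicF.IsInvertible A → B A (ClSub.idealMod (Z (Fin.last n))) = 0 := by
    intro A hA
    have hT := hIinv (Fin.last n)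
    rw [hZlast] at hT ⊢
    rw [hB]
    simp only
    rw [intNum_idealMod_top k hd A hA hT]
    simp
  have hK : 0 ≤ B L L + 2 * B L (ClSub.idealMod (Z 0)) +
      B (ClSub.idealMod (Z 0)) (ClSub.idealMod (Z 0)) -
      2 * μ 0 * (B L LF + B (ClSub.idealMod (Z 0)) LF) + μ 0 ^ 2 * B LF LF := by
    have h1 : (0 : ℚ) ≤ B (M 0) (M 0) := by
      rw [hB]
      simp only
      exact_mod_cast hMsq 0
    rw [hform 0 (M 0) (hMinv 0), Bcomm (M 0) L (hMinv 0) hL,
      Bcomm (M 0) (ClSub.idealMod (Z 0)) (hMinv 0) (hIinv 0),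
      Bcomm (M 0) LF (hMinv 0) hLFinv, hform 0 L hL, hform 0 _ (hIinv 0),
      hform 0 LF hLFinv] at h1
    rw [Bcomm (ClSub.idealMod (Z 0)) L (hIinv 0) hL, Bcomm LF L hLFinv hL,
      Bcomm LF (ClSub.idealMod (Z 0)) hLFinv (hIinv 0)] at h1
    have hb0 : (0 : ℚ) < b 0 := by exact_mod_cast hb 0
    by_contra hneg
    push Not at hneg
    have h2 := mul_neg_of_pos_of_neg (mul_pos hb0 hb0) hneg
    nlinarith [h1, h2]
  have hW : ∀ (i : Fin n) (j : Fin (n + 1)),
      0 ≤ (B L (ClSub.idealMod (Z i.succ)) - B L (ClSub.idealMod (Z i.castSucc))) +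
        (B (ClSub.idealMod (Z i.succ)) (ClSub.idealMod (Z j)) -
          B (ClSub.idealMod (Z i.castSucc)) (ClSub.idealMod (Z j))) -
        μ j * (B (ClSub.idealMod (Z i.succ)) LF - B (ClSub.idealMod (Z i.castSucc)) LF) := by
    intro i j
    have hle : Z i.castSucc ≤ Z i.succ := hZmono (Fin.castSucc_lt_succ (i := i)).le
    have hsec := nontrivial_H0_diff hle (hIinv i.castSucc) (Iinv i.castSucc)
      (hIinv' i.castSucc) (eIinv i.castSucc).some
    have hAinv : PicF.IsInvertible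
        (CohB1.tensorMod (ClSub.idealMod (Z i.succ)) (Iinv i.castSucc)) :=
      isInvertible_tensorMod (hIinv i.succ) (hIinv' i.castSucc)
    have h0 := intNum_nonneg_of_section_of_nef k hdim _ (M j) hAinv (hMinv j) (hMnef j) hsec
    have h1 : (0 : ℚ) ≤
        B (CohB1.tensorMod (ClSub.idealMod (Z i.succ)) (Iinv i.castSucc)) (M j) := by
      rw [hB]
      simp only
      exact_mod_cast h0
    have hdiff : ∀ Y, PicF.IsInvertible Y →
        B (CohB1.tensorMod (ClSub.idealMod (Z i.succ)) (Iinv i.castSucc)) Y =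
          B (ClSub.idealMod (Z i.succ)) Y - B (ClSub.idealMod (Z i.castSucc)) Y := by
      intro Y hY
      rw [hB]
      simp only
      rw [intNum_tensor_left k hd _ _ Y (hIinv i.succ) (hIinv' i.castSucc) hY,
        intNum_inv_left k hd _ _ Y (hIinv i.castSucc) hY (eIinv i.castSucc).some]
      push_cast
      ring
    rw [hform j _ hAinv, hdiff L hL, hdiff _ (hIinv j), hdiff LF hLFinv,
      Bcomm (ClSub.idealMod (Z i.succ)) L (hIinv i.succ) hL,
      Bcomm (ClSub.idealMod (Z i.castSucc)) L (hIinv i.castSucc) hL] at h1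
    have hbj : (0 : ℚ) < b j := by exact_mod_cast hb j
    exact (mul_nonneg_iff_of_pos_left hbj).mp h1
  have hmain := numeric_core n μ (B L L) (B L LF) (B LF LF)
    (fun j => B L (ClSub.idealMod (Z j))) (fun j => B (ClSub.idealMod (Z j)) LF)
    (fun i j => B (ClSub.idealMod (Z i)) (ClSub.idealMod (Z j)))
    (fun i j => Bcomm _ _ (hIinv i) (hIinv j))
    (htop L hL)
    (by rw [Bcomm _ LF (hIinv _) hLFinv]; exact htop LF hLFinv)
    (htop _ (hIinv _)) hμlast hK (fun i => hW i i.castSucc) (fun i => hW i i.succ)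
  subst hB
  exact hmain

end Groth.Agent.H5.NefC
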